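import Mathlib.RingTheory.Spectrum.Prime.Topology
import Mathlib.RingTheory.Ideal.GoingUp
import Mathlib.LinearAlgebra.Matrix.ToLin
import Mathlib.LinearAlgebra.Determinant
import Mathlib.RingTheory.Finiteness.Projective

/-!
# The norm locus of an element of a finite projective algebra
-/

universe u

open TensorProduct

namespace Groth.Agent.FinEtQuot

/-- The norm locus: where all primes over a point avoid `b`. -/
theorem exists_forall_notMem_iff {A B : Type u} [CommRing A] [CommRing B] [Algebra A B]
    [Module.Finite A B] [Module.Projective A B] (b : B) :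
    ∃ h : A, ∀ p : PrimeSpectrum A, h ∉ p.asIdeal ↔
      ∀ q : PrimeSpectrum B, q.comap (algebraMap A B) = p → b ∉ q.asIdeal := by
  obtain ⟨n, π, σ, -, -, hπσ⟩ := Module.Finite.exists_comp_eq_id_of_projective A B
  have hπσ' : ∀ x, π (σ x) = x := LinearMap.congr_fun hπσ
  let M : B → ((Fin n → A) →ₗ[A] (Fin n → A)) := fun b =>
    σ ∘ₗ LinearMap.mulLeft A b ∘ₗ π + (LinearMap.id - σ ∘ₗ π)
  have hM : ∀ b v, π (M b v) = b * π v := fun b v => by simp [M, hπσ']
  have hM2 : ∀ b c v, M b (M c v) = M (b * c) v := fun b c v => by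
    change σ (b * π (M c v)) + (M c v - σ (π (M c v))) = _
    rw [hM]
    simp [M]
  refine ⟨LinearMap.det (M b), fun p => ⟨fun hp q hq hbq => ?_, fun hall => ?_⟩⟩
  · let Mt := LinearMap.toMatrix' (M b)
    let w := Matrix.toLin' Mt.adjugate
    have hw : ∀ v, M b (w v) = LinearMap.det (M b) • v := fun v => by
      have h1 : M b = Matrix.toLin' Mt := (Matrix.toLin'_toMatrix' _).symm
      rw [show LinearMap.det (M b) = Mt.det from (LinearMap.det_toMatrix' _).symm]
      conv_lhs => rw [h1]
      rw [← LinearMap.comp_apply, ← Matrix.toLin'_mul, Matrix.mul_adjugate, map_smul,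
        Matrix.toLin'_one]
      rfl
    refine hp ?_
    rw [← hq, PrimeSpectrum.comap_asIdeal, Ideal.mem_comap, Algebra.algebraMap_eq_smul_one]
    have := congrArg π (hw (σ 1))
    rw [hM, map_smul, hπσ'] at this
    rw [← this]
    exact q.asIdeal.mul_mem_right _ hbq
  · let I : Ideal A := (Ideal.span {b}).comap (algebraMap A B)
    obtain ⟨g, hgI, hgp⟩ : ∃ g ∈ I, g ∉ p.asIdeal := by
      by_contra! hle
      have hle' : I ≤ p.asIdeal := hle
      obtain ⟨Q, hQ, hQp, hQc⟩ :=
        Ideal.exists_ideal_over_prime_of_isIntegral p.asIdeal (Ideal.span {b}) hle'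
      exact hall ⟨Q, hQp⟩ (PrimeSpectrum.ext hQc) (hQ (Ideal.mem_span_singleton_self b))
    obtain ⟨c, hc⟩ := Ideal.mem_span_singleton'.1 hgI
    let N : (Fin n → A) →ₗ[A] (Fin n → A) := g • (LinearMap.id - σ ∘ₗ π) + σ ∘ₗ π
    have h : M b ∘ₗ (M c ∘ₗ N) = g • LinearMap.id := by
      refine LinearMap.ext fun v => ?_
      change M b (M c (N v)) = g • v
      rw [hM2, mul_comm, hc]
      simp only [M, N, LinearMap.add_apply, LinearMap.comp_apply, LinearMap.mulLeft_apply,
        LinearMap.sub_apply, LinearMap.id_apply, LinearMap.smul_apply, map_add, map_sub, map_smul,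
        hπσ', ← Algebra.smul_def, smul_add, smul_sub]
      abel
    intro hp
    have hd := congrArg LinearMap.det h
    rw [LinearMap.det_comp, LinearMap.det_smul, LinearMap.det_id, mul_one] at hd
    exact hgp (p.isPrime.mem_of_pow_mem _ (hd ▸ p.asIdeal.mul_mem_right _ hp))

end Groth.Agent.FinEtQuot
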